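import Groth.Agent.Calg1.GRingHens.Basic
import Groth.Agent.Hensel1.Std
import Groth.Agent.Ega4Algebra1.DedekindExcellent
import Groth.Agent.Ega4Algebra1.GRingDescent
import Groth.Agent.Ega4Algebra1.ExcellentLoc
import Groth.Agent.FlatmorThree.NLHens
import Groth.Agent.S2045

/-! Henselian local rings as directed unions of henselian local G-rings. -/

set_option autoImplicit false
universe u

namespace Groth.Misc12.GRingColim

open IsLocalRing

theorem isGRing_uliftInt : CAlg.IsGRing (ULift.{u} ℤ) := by
  haveI : IsPrincipalIdealRing (ULift.{u} ℤ) :=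
    IsPrincipalIdealRing.of_surjective (ULift.ringEquiv.symm : ℤ ≃+* ULift.{u} ℤ).toRingHom
      (ULift.ringEquiv.symm : ℤ ≃+* ULift.{u} ℤ).surjective
  haveI : IsDomain (ULift.{u} ℤ) := (ULift.ringEquiv : ULift.{u} ℤ ≃+* ℤ).isDomain_iff.2 inferInstance
  haveI : CharZero (ULift.{u} ℤ) := ⟨fun a b h => by
    have h2 := congrArg (ULift.ringEquiv : ULift.{u} ℤ ≃+* ℤ) h
    simpa only [map_natCast, Nat.cast_inj] using h2⟩
  exact (Groth.Ega4Algebra1.isExcellent_of_isDedekindDomain_charZero (ULift.{u} ℤ)).2.2.1

variable {A : Type u} [CommRing A] [HenselianLocalRing A]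

/-- Evaluation of integral polynomials in the elements of `F`. -/
noncomputable def ev (F : Finset A) : MvPolynomial F (ULift.{u} ℤ) →+* A :=
  MvPolynomial.eval₂Hom ((Int.castRingHom A).comp ULift.ringEquiv.toRingHom) fun x => x.1

theorem ev_X (F : Finset A) (x : F) : ev F (MvPolynomial.X x) = x.1 :=
  MvPolynomial.eval₂Hom_X' _ _ _

noncomputable def pr (F : Finset A) : Ideal (MvPolynomial F (ULift.{u} ℤ)) :=
  (maximalIdeal A).comap (ev F)

instance (F : Finset A) : (pr F).IsPrime := Ideal.IsPrime.comap _

noncomputable def toA (F : Finset A) : Localization.AtPrime (pr F) →+* A :=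
  IsLocalization.lift (M := (pr F).primeCompl) (g := ev F)
    fun y => notMem_maximalIdeal.1 y.2

theorem toA_comp (F : Finset A) :
    (toA F).comp (algebraMap _ (Localization.AtPrime (pr F))) = ev F :=
  IsLocalization.lift_comp _

instance isLocalHom_toA (F : Finset A) : IsLocalHom (toA F) := by
  refine ((local_hom_TFAE _).out 0 2).mpr ?_
  rw [← Localization.AtPrime.map_eq_maximalIdeal, Ideal.map_map, toA_comp]
  exact Ideal.map_comap_le

noncomputable def incl {F F' : Finset A} (h : F ⊆ F') :
    MvPolynomial F (ULift.{u} ℤ) →+* MvPolynomial F' (ULift.{u} ℤ) :=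
  (MvPolynomial.rename fun x : F => (⟨x.1, h x.2⟩ : F')).toRingHom

theorem ev_comp_incl {F F' : Finset A} (h : F ⊆ F') : (ev F').comp (incl h) = ev F :=
  RingHom.ext fun p => MvPolynomial.eval₂Hom_rename _ _ _ p

noncomputable def toLoc {F F' : Finset A} (h : F ⊆ F') :
    Localization.AtPrime (pr F) →+* Localization.AtPrime (pr F') :=
  IsLocalization.lift (M := (pr F).primeCompl)
    (g := (algebraMap (MvPolynomial F' (ULift.{u} ℤ)) (Localization.AtPrime (pr F'))).comp (incl h))
    fun y => IsLocalization.map_units (M := (pr F').primeCompl) (Localization.AtPrime (pr F'))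
      ⟨incl h y.1, fun hy => y.2 (by
        show ev F y.1 ∈ maximalIdeal A
        rw [← ev_comp_incl h]
        exact hy)⟩

theorem toA_comp_toLoc {F F' : Finset A} (h : F ⊆ F') : (toA F').comp (toLoc h) = toA F := by
  refine IsLocalization.ringHom_ext (pr F).primeCompl ?_
  rw [RingHom.comp_assoc, toA_comp, toLoc, IsLocalization.lift_comp, ← RingHom.comp_assoc, toA_comp,
    ev_comp_incl]

theorem isLocalHom_toLoc {F F' : Finset A} (h : F ⊆ F') : IsLocalHom (toLoc h) :=
  ⟨fun x hx => by
    have := hx.map (toA F')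
    rw [← RingHom.comp_apply, toA_comp_toLoc h] at this
    exact IsUnit.of_map (toA F) x this⟩

abbrev H (F : Finset A) : Type u :=
  Groth.Hensel1.Hens (Localization.AtPrime (pr F)) (ResidueField (Localization.AtPrime (pr F)))

theorem exists_lift (F : Finset A) :
    ∃ φ : H F →+* A, φ.comp (algebraMap _ (H F)) = toA F ∧ IsLocalHom φ := by
  obtain ⟨φ, hφ, -⟩ := (Groth.Hensel1.isHenselization_hens (Localization.AtPrime (pr F))).universal A (toA F) (isLocalHom_toA F)
  refine ⟨φ, hφ, ((local_hom_TFAE _).out 0 2).mpr ?_⟩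
  rw [← Groth.Hensel1.Hens.map_maximalIdeal, Ideal.map_map, hφ]
  exact ((local_hom_TFAE (toA F)).out 0 2).mp (isLocalHom_toA F)

noncomputable def lift (F : Finset A) : H F →+* A := (exists_lift F).choose

theorem lift_comp (F : Finset A) : (lift F).comp (algebraMap _ (H F)) = toA F :=
  (exists_lift F).choose_spec.1

instance isLocalHom_lift (F : Finset A) : IsLocalHom (lift F) := (exists_lift F).choose_spec.2

theorem lift_unique (F : Finset A) (φ : H F →+* A) (h : φ.comp (algebraMap _ (H F)) = toA F) :
    φ = lift F := by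
  obtain ⟨g, -, hu⟩ := (Groth.Hensel1.isHenselization_hens (Localization.AtPrime (pr F))).universal A (toA F) (isLocalHom_toA F)
  exact (hu φ h).trans (hu _ (lift_comp F)).symm

theorem range_mono {F F' : Finset A} (h : F ⊆ F') : (lift F).range ≤ (lift F').range := by
  have hH := Groth.Hensel1.isHenselization_hens (Localization.AtPrime (pr F))
  have hl : IsLocalHom ((algebraMap _ (H F')).comp (toLoc h)) :=
    ⟨fun x hx => (isLocalHom_toLoc h).1 x (IsUnit.of_map (algebraMap _ (H F')) _ hx)⟩
  obtain ⟨g, hg, -⟩ := hH.universal (H F') ((algebraMap _ (H F')).comp (toLoc h)) hl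
  have he : (lift F').comp g = lift F := lift_unique F _ (by
    rw [RingHom.comp_assoc, hg, ← RingHom.comp_assoc, lift_comp, toA_comp_toLoc])
  rintro _ ⟨x, rfl⟩
  exact ⟨g x, RingHom.congr_fun he x⟩

theorem isGRing_range (F : Finset A) : CAlg.IsGRing (lift F).range := by
  have hR : CAlg.IsGRing (Localization.AtPrime (pr F)) :=
    Groth.Ega4Algebra1.isGRing_localization
      (Groth.Ega4Algebra1.isGRing_of_finiteType _ isGRing_uliftInt (MvPolynomial F (ULift.{u} ℤ)))
      (pr F).primeCompl
  haveI := hR.1
  haveI := Groth.Hensel1.isHenselization_hens (Localization.AtPrime (pr F))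
  have hH : CAlg.IsGRing (H F) := Groth.Agent.S2045.result hR
  letI : Algebra (H F) (lift F).range := (lift F).rangeRestrict.toAlgebra
  haveI : Algebra.FiniteType (H F) (lift F).range :=
    Algebra.FiniteType.of_surjective (Algebra.ofId (H F) _) (lift F).rangeRestrict_surjective
  exact Groth.Ega4Algebra1.isGRing_of_finiteType _ hH _

theorem henselian_range (F : Finset A) :
    ∃ _ : HenselianLocalRing (lift F).range, IsLocalHom (lift F).range.subtype := by
  haveI : HenselianLocalRing (H F) := (Groth.Hensel1.isHenselization_hens _).henselian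
  haveI : IsLocalRing (lift F).range :=
    IsLocalRing.of_surjective' (lift F).rangeRestrict (lift F).rangeRestrict_surjective
  refine ⟨Groth.FlatmorThree.NLHens.henselianLocalRing_of_surjective (lift F).rangeRestrict
    (lift F).rangeRestrict_surjective, ⟨fun x hx => ?_⟩⟩
  obtain ⟨y, rfl⟩ := (lift F).rangeRestrict_surjective x
  exact ((isLocalHom_lift F).1 y hx).map _

theorem main : ∃ (ι : Type u) (_ : Preorder ι) (_ : IsDirectedOrder ι) (_ : Nonempty ι) (G : ι → Type u)
      (_ : ∀ i, CommRing (G i)) (f : ∀ i j : ι, i ≤ j → (G i →+* G j))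
      (_ : DirectedSystem G (fun i j h => f i j h)),
      (∀ i, HenselianLocalRing (G i) ∧ CAlg.IsGRing (G i)) ∧
      (∀ (i j : ι) (h : i ≤ j), IsLocalHom (f i j h)) ∧
      Nonempty (A ≃+* DirectLimit G f) := by
  classical
  let S := fun F : Finset A => (lift F).range
  let f : ∀ i j : Finset A, i ≤ j → (S i →+* S j) := fun i j h => Subring.inclusion (range_mono h)
  haveI hds : DirectedSystem (fun F => S F) (fun i j h => f i j h) :=
    ⟨fun _ _ => rfl, fun _ _ _ _ _ _ => rfl⟩
  refine ⟨Finset A, inferInstance, inferInstance, inferInstance, fun F => S F, fun F => inferInstance, f, hds,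
    fun F => ⟨(henselian_range F).choose, isGRing_range F⟩, fun i j h => ?_, ?_⟩
  · obtain ⟨_, hi⟩ := henselian_range i
    exact ⟨fun x hx => hi.1 x (hx.map (S j).subtype)⟩
  · let e : DirectLimit (fun F => S F) f →+* A :=
      DirectLimit.Ring.lift (fun F => S F) f A (fun F => (S F).subtype) fun _ _ _ _ => rfl
    have hinj : Function.Injective e := by
      intro x y hxy
      induction x, y using DirectLimit.induction₂ with
      | ih i x y =>
        have hxy' : (x : A) = (y : A) := hxy
        rw [Subtype.ext hxy']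
    have hsurj : Function.Surjective e := by
      intro a
      have hmem : a ∈ S {a} := ⟨algebraMap _ (H {a})
        (algebraMap _ (Localization.AtPrime (pr {a}))
          (MvPolynomial.X (⟨a, Finset.mem_singleton_self a⟩ : ({a} : Finset A)))), by
          rw [← RingHom.comp_apply, lift_comp, ← RingHom.comp_apply, toA_comp, ev_X]⟩
      exact ⟨⟦⟨{a}, ⟨a, hmem⟩⟩⟧, rfl⟩
    exact ⟨(RingEquiv.ofBijective e ⟨hinj, hsurj⟩).symm⟩

end Groth.Misc12.GRingColim
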